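import Cfsg.Agent.H845.K547.Jordan
import Cfsg.Agent.H473.K547.Ly
import Cfsg.Agent.TypeM.FactsMcL
import Cfsg.Agent.H472.ComTwoLarge
import Cfsg.Agent.H997.OutMcL
import Cfsg.Agent.H956.K4.McLRow
import Cfsg.Agent.H956.K547.McL

/-!
# S4547: the row of the McLaughlin group

* `d3_mcl` : the centralizer of an involution has odd index and maps onto `A_8`;
* `sq_inner` : squares of automorphisms are inner;
* `row`.
-/

set_option autoImplicit false

open Cfsg Cfsg.Agent.H821.K547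

universe u

namespace Cfsg.Agent.H344.K547.McL

open Subgroup

theorem d3_mcl {S : Type u} [Group S] (h : Spor.IsoMcL S) : D3 S := by
  obtain ⟨hfin, -, -, ⟨L⟩⟩ := Cfsg.Agent.TypeM.FactsMcL.facts h
  have hodd := Cfsg.Agent.TypeM.FactsAut.odd_index L
  exact Cfsg.Agent.H473.K547.d3_of_mt L (fun h2 => absurd hodd (Nat.not_odd_iff_even.2 (even_iff_two_dvd.2 h2)))
    (Cfsg.Agent.H473.K547.d3_alt le_rfl)

theorem sq_inner {S : Type u} [Group S] (h : Spor.IsoMcL S) (φ : MulAut S) :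
    ∃ s : S, ∀ x, (φ ^ 2) x = s * x * s⁻¹ := by
  obtain ⟨hfin, -, -, -⟩ := Cfsg.Agent.TypeM.FactsMcL.facts h
  obtain ⟨e⟩ := h
  have : Finite ↥Spor.McL := Finite.of_equiv _ e.toEquiv
  obtain ⟨g, hg⟩ := Cfsg.Agent.H472.ComTwo.sq_inner_of_out
    (K := ↥Spor.McL) (by rw [Cfsg.Agent.H997.OutMcL.card_out]) ((e.symm.trans φ).trans e)
  refine ⟨e.symm g, fun x => ?_⟩
  have h1 := congrArg (fun ψ : MulAut ↥Spor.McL => e.symm (ψ (e x))) hg
  simpa [pow_two] using h1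

theorem not_comm {S : Type u} [Group S] (h : Spor.IsoMcL S) : ¬ IsMulCommutative S := by
  obtain ⟨hfin, hs, hc, -⟩ := Cfsg.Agent.TypeM.FactsMcL.facts h
  intro hcomm
  have h1 : (Nat.card S).Prime := by
    let i : CommGroup S := { ‹Group S› with mul_comm := fun a b => hcomm.is_comm.comm a b }
    have hs' : @IsSimpleGroup S i.toGroup := hs
    exact @IsSimpleGroup.prime_card S i hs'
  rw [hc] at h1
  exact absurd h1 (by norm_num)

theorem row {S : Type u} [Group S] (h : Spor.IsoMcL S) : Row S := by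
  obtain ⟨hfin, hs, -, -⟩ := Cfsg.Agent.TypeM.FactsMcL.facts h
  refine ⟨Or.inl ⟨Cfsg.Agent.H956.K4.McLRow.good5_mcl h, d3_mcl h⟩, fun τ h1 h2 => ⟨fun _ => ?_, fun _ => ?_⟩⟩
  · exact Cfsg.Agent.H845.K547.d3_autExt (not_comm h) (d3_mcl h) (sq_inner h τ) h2
  · exact Cfsg.Agent.H956.K547.McL.ginv3_mcl h τ h1

end Cfsg.Agent.H344.K547.McL
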